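import Cfsg.Agent.Geo.OrthPlus
import Cfsg.Agent.Geo.OrthSubfieldMaximal
import Cfsg.Agent.QuadStd.Split

/-!
Anisotropic planes over a finite field are isometric; two orthogonal ones carry a totally singular
plane.
-/

set_option autoImplicit false
set_option linter.unusedSectionVars false

namespace CfsgLib.Geo.OS.FourFour

open QuadraticMap CfsgLib.Forms CfsgLib.Quad CfsgLib.Geo.OS

variable {F : Type*} [Field F] [Finite F]

/-- Two irreducible normal forms differ by a substitution. -/
theorem exists_param {ζ ζ' : F} (h : ∀ t, t ^ 2 + t + ζ ≠ 0) (h' : ∀ t, t ^ 2 + t + ζ' ≠ 0) :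
    ∃ s : F, 1 - 2 * s ≠ 0 ∧ ζ' = ζ + (s - s ^ 2) * (1 - 4 * ζ) := by
  classical
  haveI := Fintype.ofFinite F
  have hD : 1 - 4 * ζ ≠ 0 := by
    intro hD
    have h2 : (2 : F) ≠ 0 := fun h2 => one_ne_zero (α := F) (by linear_combination hD + 2 * ζ * h2)
    refine h (-(2 : F)⁻¹) ?_
    field_simp
    linear_combination -hD
  by_contra hc
  push Not at hc
  let Φ : F ⊕ F → F := Sum.elim (fun t => -(t ^ 2 + t)) fun s => ζ + (s - s ^ 2) * (1 - 4 * ζ)
  have hmix : ∀ t s : F, -(t ^ 2 + t) = ζ + (s - s ^ 2) * (1 - 4 * ζ) →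
      2 * s = 1 ∧ 2 * t + 1 = 0 := by
    intro t s hts
    have hu : 1 - 2 * s = 0 := by
      by_contra hu
      refine h ((t + s) / (1 - 2 * s)) ?_
      have hexp : (t + s) ^ 2 + (t + s) * (1 - 2 * s) + ζ * (1 - 2 * s) ^ 2 = 0 := by
        linear_combination -hts
      generalize 1 - 2 * s = u at hu hexp ⊢
      field_simp
      linear_combination hexp
    have hs : 2 * s = 1 := by linear_combination -hu
    refine ⟨hs, mul_self_eq_zero.1 ?_⟩
    linear_combination -4 * hts + (1 - 4 * ζ) * (2 * s - 1) * hs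
  have hfib : ∀ v ∈ Finset.univ.image Φ, (Finset.univ.filter fun p => Φ p = v).card ≤ 2 := by
    intro v _
    set S := Finset.univ.filter fun p => Φ p = v with hS
    have hmem : ∀ p ∈ S, Φ p = v := fun p hp => (Finset.mem_filter.1 hp).2
    by_cases hmx : ∃ t s, Sum.inl t ∈ S ∧ Sum.inr s ∈ S
    · obtain ⟨t0, s0, ht0, hs0⟩ := hmx
      obtain ⟨e1, e2⟩ := hmix t0 s0 ((hmem _ ht0).trans (hmem _ hs0).symm)
      have h2 : (2 : F) ≠ 0 := fun h2 => by rw [h2, zero_mul] at e1; exact zero_ne_one e1
      refine (Finset.card_le_card (t := {Sum.inl t0, Sum.inr s0}) ?_).trans Finset.card_le_two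
      rintro (t | s) hp
      · obtain ⟨-, f2⟩ := hmix t s0 ((hmem _ hp).trans (hmem _ hs0).symm)
        simp only [Finset.mem_insert, Finset.mem_singleton, Sum.inl.injEq, reduceCtorEq, or_false]
        exact mul_left_cancel₀ h2 (by linear_combination f2 - e2)
      · obtain ⟨f1, -⟩ := hmix t0 s ((hmem _ ht0).trans (hmem _ hp).symm)
        simp only [Finset.mem_insert, Finset.mem_singleton, Sum.inr.injEq, reduceCtorEq, false_or]
        exact mul_left_cancel₀ h2 (f1.trans e1.symm)
    push Not at hmx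
    rcases S.eq_empty_or_nonempty with h0 | ⟨p0, hp0⟩
    · rw [h0]; simp
    rcases p0 with t0 | s0
    · refine (Finset.card_le_card (t := {Sum.inl t0, Sum.inl (-1 - t0)}) ?_).trans Finset.card_le_two
      rintro (t | s) hp
      · have he : (t - t0) * (t + t0 + 1) = 0 := by
          have := (hmem _ hp).trans (hmem _ hp0).symm
          simp only [Φ, Sum.elim_inl] at this
          linear_combination -this
        rcases mul_eq_zero.1 he with e | e
        · simp [sub_eq_zero.1 e]
        · simp [show t = -1 - t0 by linear_combination e]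
      · exact absurd hp (hmx t0 s hp0)
    · refine (Finset.card_le_card (t := {Sum.inr s0, Sum.inr (1 - s0)}) ?_).trans Finset.card_le_two
      rintro (t | s) hp
      · exact absurd hp0 (hmx t s0 hp)
      · have he : (s - s0) * (1 - s - s0) = 0 := by
          have := (hmem _ hp).trans (hmem _ hp0).symm
          simp only [Φ, Sum.elim_inr] at this
          refine (mul_eq_zero.1 (?_ : (s - s0) * (1 - s - s0) * (1 - 4 * ζ) = 0)).resolve_right hD
          linear_combination this
        rcases mul_eq_zero.1 he with e | e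
        · simp [sub_eq_zero.1 e]
        · simp [show s = 1 - s0 by linear_combination -e]
  have hcard := Finset.card_le_mul_card_image Finset.univ 2 hfib
  have hne : Finset.univ.image Φ ≠ Finset.univ := by
    intro he
    obtain ⟨p, -, hp⟩ := Finset.mem_image.1 (he.symm ▸ Finset.mem_univ ζ')
    rcases p with t | s
    · exact h' t (by simp only [Φ, Sum.elim_inl] at hp; linear_combination -hp)
    · simp only [Φ, Sum.elim_inr] at hp
      refine hc s (fun hu => ?_) hp.symm
      -- the central value has a root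
      refine h' (-s) ?_
      linear_combination -hp + ζ * (1 - 2 * s) * hu
  have hlt : (Finset.univ.image Φ).card < Fintype.card F :=
    (Finset.card_lt_univ_of_notMem (x := Classical.choose
      (not_forall.1 fun hall => hne (Finset.eq_univ_iff_forall.2 hall)))
      (Classical.choose_spec (not_forall.1 fun hall => hne (Finset.eq_univ_iff_forall.2 hall))))
  rw [Finset.card_univ, Fintype.card_sum] at hcard
  omega

/-- An anisotropic plane maps isometrically into another. -/
theorem exists_plane_map {V₁ V₂ : Type*} [AddCommGroup V₁] [Module F V₁] [FiniteDimensional F V₁]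
    [AddCommGroup V₂] [Module F V₂] [FiniteDimensional F V₂]
    {Q₁ : QuadraticForm F V₁} {Q₂ : QuadraticForm F V₂}
    (hQ₁ : (polarBilin Q₁).Nondegenerate) (hQ₂ : (polarBilin Q₂).Nondegenerate)
    (d₁ : Module.finrank F V₁ = 2) (d₂ : Module.finrank F V₂ = 2)
    (a₁ : ∀ v, Q₁ v = 0 → v = 0) (a₂ : ∀ v, Q₂ v = 0 → v = 0) :
    ∃ g : V₁ →ₗ[F] V₂, Function.Injective g ∧ ∀ v, Q₂ (g v) = Q₁ v := by
  obtain ⟨ζ₁, φ₁, h₁, hφ₁⟩ := CfsgLib.QuadStd.plane_normal hQ₁ d₁ a₁
  obtain ⟨ζ₂, φ₂, h₂, hφ₂⟩ := CfsgLib.QuadStd.plane_normal hQ₂ d₂ a₂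
  obtain ⟨s, -, hs⟩ := exists_param h₂ h₁
  let m : (Fin 2 → F) →ₗ[F] (Fin 2 → F) :=
    LinearMap.pi ![LinearMap.proj 0 + s • LinearMap.proj 1, (1 - 2 * s) • LinearMap.proj 1]
  have hg : ∀ v, Q₂ (φ₂.symm (m (φ₁ v))) = Q₁ v := fun v => by
    rw [hφ₂, φ₂.apply_symm_apply, hφ₁]
    simp only [m, LinearMap.pi_apply, Matrix.cons_val_zero, Matrix.cons_val_one,
      LinearMap.add_apply, LinearMap.smul_apply, LinearMap.proj_apply, smul_eq_mul, Matrix.head_cons]
    linear_combination (φ₁ v 1) ^ 2 * (-1 : F) * hs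
  refine ⟨φ₂.symm.toLinearMap ∘ₗ m ∘ₗ φ₁.toLinearMap, ?_, hg⟩
  rw [← LinearMap.ker_eq_bot, LinearMap.ker_eq_bot']
  intro v hv
  refine a₁ v ?_
  have hv' : φ₂.symm (m (φ₁ v)) = 0 := hv
  rw [← hg v, hv', QuadraticMap.map_zero]

variable {V : Type*} [AddCommGroup V] [Module F V] [FiniteDimensional F V] {Q : QuadraticForm F V}

/-- The restriction to a non-degenerate subspace is non-degenerate. -/
theorem nondeg_restrict {E : Submodule F V} (hE : ND Q E) {Q' : QuadraticForm F E} {c : F}
    (hc : c ≠ 0) (h : ∀ x y : E, polar Q' x y = c * polar Q (x : V) y) :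
    (polarBilin Q').Nondegenerate := by
  have key : ∀ x : E, (∀ y : E, polar Q' x y = 0) → x = 0 := fun x hx => Subtype.ext
    (ND.eq_zero hE x.2 fun y hy => by
      have := hx ⟨y, hy⟩
      rw [h, mul_eq_zero, or_iff_right hc] at this
      rw [polar_comm]; exact this)
  exact ⟨fun x hx => key x fun y => hx y, fun y hy => key y fun x => by
    rw [polar_comm]; exact hy x⟩

/-- Two orthogonal anisotropic planes carry a totally singular plane. -/
theorem ts_pair {E E' : Submodule F V} (hE : ND Q E) (hE' : ND Q E') (horth : E' ≤ perpS Q E)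
    (d : Module.finrank F E = 2) (d' : Module.finrank F E' = 2)
    (a : ∀ x ∈ E, Q x = 0 → x = 0) (a' : ∀ x ∈ E', Q x = 0 → x = 0) :
    ∃ T : Submodule F V, T ≤ E ⊔ E' ∧ (∀ x ∈ T, Q x = 0) ∧ Module.finrank F T = 2 := by
  obtain ⟨g, -, hg⟩ := exists_plane_map (Q₁ := Q.comp E.subtype) (Q₂ := -(Q.comp E'.subtype))
    (nondeg_restrict hE one_ne_zero fun x y => by simp [polar])
    (nondeg_restrict hE' (neg_ne_zero.2 one_ne_zero) fun x y => by
      simp [polar]; ring)
    d d' (fun v hv => Subtype.ext (a v v.2 hv))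
    (fun v hv => Subtype.ext (a' v v.2 (neg_eq_zero.1 hv)))
  set L : E →ₗ[F] V := E.subtype + E'.subtype.comp g with hL
  have hinj : Function.Injective L := by
    rw [← LinearMap.ker_eq_bot, LinearMap.ker_eq_bot']
    intro x hx
    change (x : V) + (g x : V) = 0 at hx
    refine Subtype.ext (ND.eq_zero hE x.2 ?_)
    rw [eq_neg_of_add_eq_zero_left hx]
    exact Submodule.neg_mem _ (horth (g x).2)
  refine ⟨LinearMap.range L, ?_, ?_, by rw [LinearMap.finrank_range_of_inj hinj, d]⟩
  · rintro _ ⟨x, rfl⟩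
    exact add_mem (Submodule.mem_sup_left x.2) (Submodule.mem_sup_right (g x).2)
  · rintro _ ⟨x, rfl⟩
    change Q ((x : V) + (g x : V)) = 0
    have h1 : -Q (g x : V) = Q (x : V) := hg x
    rw [quad_add, horth (g x).2 x x.2, ← h1]
    ring

variable (hQ : (polarBilin Q).Nondegenerate)

include hQ

/-- The orthogonal space of a non-degenerate subspace inside another. -/
theorem nd_inf_perp {X S : Submodule F V} (hX : ND Q X) (hS : S ≤ X) (hSn : ND Q S) :
    ND Q (X ⊓ perpS Q S) ∧
      Module.finrank F ↥(X ⊓ perpS Q S) + Module.finrank F S = Module.finrank F X := by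
  constructor
  · refine (Submodule.eq_bot_iff _).2 fun v hv => ND.eq_zero hX hv.1.1 fun y hy => ?_
    obtain ⟨s, hs, t, ht, rfl⟩ := ND.decomp hQ hSn y
    have htX : t ∈ X := by simpa using X.sub_mem hy (hS hs)
    rw [polar_add_left, hv.1.2 s hs, zero_add]
    exact hv.2 t ⟨htX, ht⟩
  · have h1 := ND.finrank_inf_perp hQ X S
    have h2 := Submodule.finrank_sup_add_finrank_inf_eq (X ⊓ perpS Q S) S
    have h3 : (X ⊓ perpS Q S) ⊓ S = ⊥ :=
      (Submodule.eq_bot_iff _).2 fun v hv => ND.eq_zero hSn hv.2 hv.1.2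
    rw [h3, finrank_bot] at h2
    have h4 := Submodule.finrank_mono (show (X ⊓ perpS Q S) ⊔ S ≤ X from sup_le inf_le_left hS)
    change Module.finrank F X ≤ Module.finrank F ↥(X ⊓ perpS Q S) + _ at h1
    omega

/-- A hyperbolic pair spans a non-degenerate plane. -/
theorem nd_pair {z f : V} (hz : Q z = 0) (hf : Q f = 0) (h : polar Q z f ≠ 0) :
    ND Q (Submodule.span F {z, f}) ∧ Module.finrank F (Submodule.span F {z, f}) = 2 := by
  have _ := hQ
  have hzz : polar Q z z = 0 := by rw [polar_self, hz, smul_zero]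
  have hff : polar Q f f = 0 := by rw [polar_self, hf, smul_zero]
  have hfz : polar Q f z ≠ 0 := by rwa [polar_comm]
  constructor
  · refine (Submodule.eq_bot_iff _).2 fun x hx => ?_
    obtain ⟨a, b, rfl⟩ := Submodule.mem_span_pair.1 hx.1
    have h1 := hx.2 z (Submodule.subset_span (Set.mem_insert _ _))
    have h2 := hx.2 f (Submodule.subset_span (Set.mem_insert_of_mem _ rfl))
    simp only [polar_add_right, polar_smul_right, smul_eq_mul, hzz, hff, mul_zero, zero_add, add_zero,
      mul_eq_zero, h, hfz, or_false] at h1 h2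
    rw [h1, h2, zero_smul, zero_smul, add_zero]
  · have hz0 : z ≠ 0 := fun e => h (by rw [e, polar_zero_left])
    have hli : LinearIndependent F ![z, f] :=
      (LinearIndependent.pair_iff' hz0).2 fun a ha => h (by
        rw [← ha, polar_smul_right, hzz, smul_zero])
    have := finrank_span_eq_card hli
    rw [Matrix.range_cons_cons_empty] at this
    simpa using this

end CfsgLib.Geo.OS.FourFour
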