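import Cfsg.Agent.Geo.OrthNondegLow
import Cfsg.Agent.Geo.OrthFourFour.Planes

/-!
A non-degenerate four-space whose orthogonal space is a four-space of the other type has a maximal
stabiliser in `Ω`, any characteristic.
-/

set_option autoImplicit false
set_option linter.unusedSectionVars false
set_option linter.style.longLine false

namespace CfsgLib.Geo.OS.FourFour

open QuadraticMap CfsgLib.Forms CfsgLib.Quad CfsgLib.Geo.OS

variable {F V : Type*} [Field F] [AddCommGroup V] [Module F V] [FiniteDimensional F V] [Finite F]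
  {Q : QuadraticForm F V}

/-- Every singular vector of `U` has a singular vector of `U` orthogonal to it outside its line. -/
def IsPlus (Q : QuadraticForm F V) (U : Submodule F V) : Prop :=
  ∀ z ∈ U, Q z = 0 → ∃ l ∈ U, Q l = 0 ∧ polar Q z l = 0 ∧ l ∉ Submodule.span F {z}

/-- No two independent orthogonal singular vectors. -/
def IsMinus (Q : QuadraticForm F V) (W : Submodule F V) : Prop :=
  ∀ a ∈ W, ∀ b ∈ W, Q a = 0 → Q b = 0 → polar Q a b = 0 → a ≠ 0 → b ∈ Submodule.span F {a}

theorem siegel_swap {x v : V} (hx : Q x = 0) (hv : Q v = 0) (hxv : polar Q x v = 0) :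
    siegel Q x v = siegel Q v (-x) := by
  have hvx : polar Q v (-x) = 0 := by rw [polar_neg_right, polar_comm, hxv, neg_zero]
  refine Subtype.ext (LinearEquiv.ext fun y => ?_)
  rw [siegel_apply hx hxv, siegel_apply hv hvx, hv, QuadraticMap.map_neg, hx, polar_neg_right]
  module

/-- Conjugation by a root element: splitting a centre, characteristic two. -/
theorem siegel_split (h2 : (2 : F) = 0) {e x c : V} (he : Q e = 0) (hx : Q x = 0)
    (hex : polar Q e x = 0) (hec : polar Q e c = 0) (hxc : polar Q x c = 0) :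
    siegel Q (e + x) c = siegel Q e (Q c • x) * siegel Q e c * siegel Q x c := by
  have hee : polar Q e e = 0 := by rw [polar_self, he, smul_zero]
  have hxx : polar Q x x = 0 := by rw [polar_self, hx, smul_zero]
  have hcc : polar Q c c = 0 := by rw [polar_self, two_nsmul, ← two_mul, h2, zero_mul]
  have hxe : polar Q x e = 0 := by rw [polar_comm]; exact hex
  have hce : polar Q c e = 0 := by rw [polar_comm]; exact hec
  have hcx : polar Q c x = 0 := by rw [polar_comm]; exact hxc
  refine Subtype.ext (LinearEquiv.ext fun y => ?_)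
  rw [siegel_apply (by rw [quad_add, he, hx, hex, add_zero, add_zero])
    (by rw [polar_add_left, hec, hxc, add_zero])]
  change _ = (siegel Q e (Q c • x)).1 ((siegel Q e c).1 ((siegel Q x c).1 y))
  rw [siegel_apply he (by rw [polar_smul_right, hex, smul_zero]), siegel_apply he hec,
    siegel_apply hx hxc]
  simp only [polar_add_left, polar_sub_left, polar_add_right, polar_smul_left, polar_smul_right,
    quad_smul, hee, hxx, hcc, hxe, hex, hce, hec, hcx, hxc, hx, smul_eq_mul, smul_zero, mul_zero,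
    add_zero, sub_zero, zero_mul]
  have hneg : ∀ r : F, -r = r := fun r => by
    rw [neg_eq_iff_add_eq_zero, ← two_mul, h2, zero_mul]
  match_scalars <;> first
    | ring1
    | (simp only [sub_eq_add_neg, hneg]; ring1)
    | (simp only [sub_eq_add_neg, hneg]; ring_nf; simp [h2])

/-- The root element in the stabiliser, characteristic two. -/
theorem siegel_eq_refl_pair (h2 : (2 : F) = 0) {u w : V} (huw : polar Q u w = 0)
    (hQu : Q u ≠ 0) (hQx : Q (u + w) = 0) :
    Q w = Q u ∧ siegel Q (u + w) ((Q u)⁻¹ • u) = refl Q u * refl Q w := by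
  have hneg : ∀ r : F, -r = r := fun r => by
    rw [neg_eq_iff_add_eq_zero, ← two_mul, h2, zero_mul]
  have hQw : Q w = Q u := by
    rw [quad_add, huw, add_zero, add_eq_zero_iff_eq_neg, hneg] at hQx; exact hQx.symm
  have huu : polar Q u u = 0 := by rw [polar_self, two_nsmul, ← two_mul, h2, zero_mul]
  have hwu : polar Q w u = 0 := by rw [polar_comm]; exact huw
  refine ⟨hQw, Subtype.ext (LinearEquiv.ext fun y => ?_)⟩
  rw [siegel_apply hQx (by rw [polar_smul_right, polar_add_left, huu, hwu, add_zero, smul_zero])]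
  change _ = (refl Q u).1 ((refl Q w).1 y)
  rw [refl_apply, refl_apply, hQw]
  simp only [polar_add_left, polar_add_right, polar_smul_left, polar_smul_right, quad_smul, hwu,
    smul_eq_mul, mul_zero, add_zero, hneg]
  match_scalars
  all_goals first
    | (field_simp; done)
    | (field_simp; ring1)
    | (field_simp; simp only [sub_eq_add_neg, hneg]; ring1)
    | (field_simp; simp only [sub_eq_add_neg, hneg]; linear_combination (polar Q y u) * h2)
    | (field_simp; simp only [sub_eq_add_neg, hneg]; linear_combination (polar Q y u + polar Q y w) * h2)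
    | (field_simp; simp only [sub_eq_add_neg, hneg]; linear_combination (-(polar Q y u)) * h2)

theorem IsPlus.exists_value (hQ : (polarBilin Q).Nondegenerate) {U : Submodule F V} (hU : ND Q U)
    (hp : IsPlus Q U) {u : V} (hu : u ∈ U) (hQu : Q u = 0) (c : F) :
    ∃ d ∈ U, polar Q u d = 0 ∧ Q d = c := by
  obtain ⟨l, hl, hQl, hul, hln⟩ := hp u hu hQu
  obtain ⟨y, hy, hyu, hly⟩ := ND.partner_perp hQ hU
    ((Submodule.span_singleton_le_iff_mem _ _).2 hu) hl hln
  refine ⟨y + ((c - Q y) / polar Q l y) • l, U.add_mem hy (U.smul_mem _ hl), ?_, ?_⟩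
  · rw [polar_add_right, polar_smul_right, hul, hyu u (Submodule.mem_span_singleton_self u)]; simp
  · rw [quad_add, quad_smul, hQl, polar_smul_right, polar_comm (⇑Q) y l, smul_eq_mul]
    field_simp; ring

/-- A singular vector orthogonal to `a` and not to `d`, for anisotropic `a`. -/
theorem exists_singular_perp (hQ : (polarBilin Q).Nondegenerate) {X : Submodule F V} (hX : ND Q X)
    (h4 : 4 ≤ Module.finrank F X) {a d : V} (ha : a ∈ X) (hd : d ∈ X) (hQa : Q a ≠ 0)
    (hdn : d ∉ Submodule.span F {a}) :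
    ∃ e ∈ X, Q e = 0 ∧ polar Q a e = 0 ∧ polar Q d e ≠ 0 := by
  have haX : Submodule.span F {a} ≤ X := (Submodule.span_singleton_le_iff_mem _ _).2 ha
  have h1 := ND.finrank_inf_perp_singleton hQ X a
  obtain ⟨z, ⟨hz, hza'⟩, hz0, hQz⟩ :=
    exists_singular_of_three (Q := Q) (X ⊓ perpS Q (Submodule.span F {a})) (by
      change 3 ≤ Module.finrank F ↥(X ⊓ perpS Q (Submodule.span F {a}))
      omega)
  have haz : polar Q a z = 0 := hza' a (Submodule.mem_span_singleton_self a)
  by_cases hdz : polar Q d z = 0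
  swap
  · exact ⟨z, hz, hQz, haz, hdz⟩
  have hzn : z ∉ Submodule.span F {a} := fun h => by
    obtain ⟨t, rfl⟩ := Submodule.mem_span_singleton.1 h
    rw [quad_smul, mul_eq_zero, or_iff_left hQa, mul_self_eq_zero] at hQz
    exact hz0 (by rw [hQz, zero_smul])
  obtain ⟨y, hy, hya, hzy⟩ := ND.partner_perp hQ hX haX hz hzn
  set y' := y + (-(Q y / polar Q z y)) • z with hy'
  have hy'X : y' ∈ X := X.add_mem hy (X.smul_mem _ hz)
  have hQy' : Q y' = 0 := by
    rw [hy', quad_add, quad_smul, hQz, polar_smul_right, polar_comm (⇑Q) y z, smul_eq_mul]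
    field_simp; ring
  have hay' : polar Q a y' = 0 := by
    rw [hy', polar_add_right, polar_smul_right, haz, hya a (Submodule.mem_span_singleton_self a),
      smul_zero, add_zero]
  by_cases hdy : polar Q d y' = 0
  swap
  · exact ⟨y', hy'X, hQy', hay', hdy⟩
  obtain ⟨c, hc, hca, hdc⟩ := ND.partner_perp hQ hX haX hd hdn
  have hzz : polar Q z z = 0 := by rw [polar_self, hQz, smul_zero]
  have hy'y' : polar Q y' y' = 0 := by rw [polar_self, hQy', smul_zero]
  have hzy' : polar Q z y' = polar Q z y := by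
    rw [hy', polar_add_right, polar_smul_right, hzz, smul_zero, add_zero]
  set c' := c + (-(polar Q z c / polar Q z y')) • y' + (-(polar Q y' c / polar Q z y')) • z with hc'
  have hne : polar Q z y' ≠ 0 := hzy'.symm ▸ hzy
  have hzc' : polar Q z c' = 0 := by
    rw [hc', polar_add_right, polar_add_right, polar_smul_right, polar_smul_right, hzz, smul_zero,
      add_zero, smul_eq_mul, neg_mul, div_mul_cancel₀ _ hne, add_neg_cancel]
  have hy'c' : polar Q y' c' = 0 := by
    rw [hc', polar_add_right, polar_add_right, polar_smul_right, polar_smul_right, hy'y', smul_zero,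
      add_zero, polar_comm (⇑Q) y' z, smul_eq_mul, neg_mul, div_mul_cancel₀ _ hne, add_neg_cancel]
  have hdc' : polar Q d c' ≠ 0 := by
    rw [hc', polar_add_right, polar_add_right, polar_smul_right, polar_smul_right, hdy, hdz]
    simpa using hdc
  have hc'X : c' ∈ X := X.add_mem (X.add_mem hc (X.smul_mem _ hy'X)) (X.smul_mem _ hz)
  have hac' : polar Q a c' = 0 := by
    rw [hc']
    simp [polar_add_right, polar_smul_right, haz, hay',
      hca a (Submodule.mem_span_singleton_self a)]
  clear_value c' y'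
  clear hc' hy'
  refine ⟨c' + y' + (-(Q c' / polar Q z y')) • z,
    X.add_mem (X.add_mem hc'X hy'X) (X.smul_mem _ hz), ?_, ?_, ?_⟩
  · rw [quad_add, quad_add, quad_smul, hQy', hQz, polar_smul_right, polar_add_left,
      polar_comm (⇑Q) c' y', hy'c', polar_comm (⇑Q) c' z, hzc', polar_comm (⇑Q) y' z, smul_eq_mul]
    field_simp; ring
  · rw [polar_add_right, polar_add_right, polar_smul_right, haz, hay', hac', smul_zero, add_zero,
      add_zero]
  · rw [polar_add_right, polar_add_right, polar_smul_right, hdy, hdz]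
    simpa using hdc'

variable (hQ : (polarBilin Q).Nondegenerate) (hn : Module.finrank F V = 8) {U : Submodule F V}
  (hU : ND Q U) (hU4 : Module.finrank F U = 4) (hp : IsPlus Q U) (hm : IsMinus Q (perpS Q U))
  {M : Subgroup (oGroup Q)} (hM : stabO Q U ⊓ commutator (oGroup Q) ≤ M)

include hQ hn hU hU4 hp hm hM

theorem siegel_mem_side {X : Submodule F V} (hX : X = U ∨ X = perpS Q U) {e a : V} (he : e ∈ X)
    (ha : a ∈ X) (hQe : Q e = 0) (hea : polar Q e a = 0) : siegel Q e a ∈ M := by
  refine hM ⟨siegel_mem_stabO hQ hQe hea ?_, siegel_mem_commutator hQ (by omega) hQe hea⟩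
  rcases hX with rfl | rfl
  exacts [Or.inl ⟨he, ha⟩, Or.inr ⟨he, ha⟩]

/-- One Siegel transformation mixing the two sides gives everything. -/
theorem le_of_mixed {X : Submodule F V} (hX : X = U ∨ X = perpS Q U) {z : V} (hz : z ∈ X)
    (hz0 : z ≠ 0) (hQz : Q z = 0) {b : V} (hb : b ∈ perpS Q X) (hb0 : b ≠ 0)
    (hzb : siegel Q z b ∈ M) : commutator (oGroup Q) ≤ M := by
  have hn5 : 5 ≤ Module.finrank F V := by omega
  have hsum := finrank_perpS hQ U
  have hXnd : ND Q X := by rcases hX with rfl | rfl; exacts [hU, ND.perp hQ hU]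
  have h3 : 3 ≤ Module.finrank F (perpS Q X) := by
    rcases hX with rfl | rfl
    · omega
    · rw [perpS_perpS hQ]; omega
  have hfill : ∀ q ∈ perpS Q X, siegel Q z q ∈ M := by
    refine fill hQ (ND.perp hQ hXnd) h3 (fun q => siegel Q z q ∈ M) ?_ ?_ ?_ hb hb0 hzb
    · intro a a' ha ha' h h'
      rw [← siegel_mul hQz (ha z hz) (ha' z hz)]; exact mul_mem h h'
    · intro a ha h
      rw [← siegel_inv hQz (ha z hz)]; exact inv_mem h
    · intro e c he hc hQe hec q hq h
      have hmem : siegel Q e c ∈ M := by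
        refine hM ⟨siegel_mem_stabO hQ hQe hec ?_, siegel_mem_commutator hQ hn5 hQe hec⟩
        rcases hX with rfl | rfl
        · exact Or.inr ⟨he, hc⟩
        · exact Or.inl ⟨by rwa [perpS_perpS hQ] at he, by rwa [perpS_perpS hQ] at hc⟩
      have := siegel_conj_mem hmem hQz (hq z hz) h
      rwa [siegel_fix hQe hec (he z hz) (hc z hz)] at this
  have hF : Full M z := by
    intro a ha
    obtain ⟨p, hp', q, hq, rfl⟩ := ND.decomp hQ hXnd a
    have hzq : polar Q z q = 0 := hq z hz
    have hzp : polar Q z p = 0 := by rwa [polar_add_right, hzq, add_zero] at ha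
    rw [← siegel_mul hQz hzp hzq]
    exact mul_mem (siegel_mem_side hQ hn hU hU4 hp hm hM hX hz hp' hQz hzp) (hfill q hq)
  obtain ⟨f, hf, hQf, hzf⟩ := ND.singular_partner hXnd hz hz0 hQz
  set d := z - f with hd_def
  have hQd : Q d = -polar Q z f := by
    rw [hd_def, sub_eq_add_neg, quad_add, QuadraticMap.map_neg, hQz, hQf, polar_neg_right]; ring
  have hd0 : Q d ≠ 0 := by rw [hQd, neg_ne_zero]; exact hzf
  obtain ⟨d', hd', hzd', hQd'⟩ : ∃ d' ∈ U, polar Q z d' = 0 ∧ Q d' = Q d := by
    rcases hX with rfl | rfl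
    · exact hp.exists_value hQ hU hz hQz (Q d)
    · obtain ⟨d', hd', -, h⟩ := hp.exists_value hQ hU U.zero_mem (QuadraticMap.map_zero Q) (Q d)
      exact ⟨d', hd', by rw [polar_comm]; exact hz d' hd', h⟩
  have hdU : d ∈ U ∨ d ∈ perpS Q U := by
    rcases hX with rfl | rfl
    · exact Or.inl (Submodule.sub_mem _ hz hf)
    · exact Or.inr (Submodule.sub_mem _ hz hf)
  have hg : refl Q d * refl Q d' ∈ M := hM ⟨mul_mem (refl_mem_stabO hQ hdU)
    (refl_mem_stabO hQ (Or.inl hd')), refl_pair_mem_commutator hQ hd0 (by rwa [hQd'])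
      (by rw [hQd']; exact IsSquare.mul_self _)⟩
  have himg : (refl Q d * refl Q d').1 z = f := by
    change (refl Q d).1 ((refl Q d').1 z) = f
    rw [refl_fix hzd', refl_apply, hQd, hd_def, polar_sub_right, polar_self, hQz]
    simp only [smul_zero, zero_sub]
    match_scalars <;> field_simp <;> ring
  have hFf := Full.conj hg hQz hF
  rw [himg] at hFf
  exact commutator_le_of_two hQ hn5 hQz hQf hzf hF hFf

/-- A root element on a line with one point on a side, the other not. -/
theorem le_of_line {X : Submodule F V} (hX : X = U ∨ X = perpS Q U) {v x : V} (hv : v ∈ X)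
    (hv0 : v ≠ 0) (hQv : Q v = 0) (hQx : Q x = 0) (hxv : polar Q x v = 0) (hx : x ∉ X)
    (h : siegel Q x v ∈ M) : commutator (oGroup Q) ≤ M := by
  have hXnd : ND Q X := by rcases hX with rfl | rfl; exacts [hU, ND.perp hQ hU]
  obtain ⟨p, hp', q, hq, rfl⟩ := ND.decomp hQ hXnd x
  have hvq : polar Q v q = 0 := hq v hv
  have hvp : polar Q v p = 0 := by
    rwa [polar_comm, polar_add_right, hvq, add_zero] at hxv
  rw [siegel_swap hQx hQv hxv, neg_add,
    ← siegel_mul hQv (by rw [polar_neg_right, hvp, neg_zero])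
      (by rw [polar_neg_right, hvq, neg_zero])] at h
  refine le_of_mixed hQ hn hU hU4 hp hm hM hX hv hv0 hQv (b := -q) (Submodule.neg_mem _ hq)
    (fun h0 => hx ?_) ((mul_mem_cancel_left ?_).1 h)
  · rw [neg_eq_zero.1 h0, add_zero]; exact hp'
  · exact siegel_mem_side hQ hn hU hU4 hp hm hM hX hv (X.neg_mem hp') hQv
      (by rw [polar_neg_right, hvp, neg_zero])

/-- Characteristic two: a suitable root element at a singular vector with anisotropic components. -/
theorem le_of_aniso_two (h2 : (2 : F) = 0) {X : Submodule F V} (hX : X = U ∨ X = perpS Q U)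
    {u w b e : V} (hu : u ∈ X) (hw : w ∈ perpS Q X) (hQu : Q u ≠ 0) (hQx : Q (u + w) = 0)
    (hxb : polar Q (u + w) b = 0) (hbu : polar Q b u = 0) (h : siegel Q (u + w) b ∈ M)
    (he : e ∈ X) (hQe : Q e = 0) (hue : polar Q u e = 0) (hbe : polar Q b e ≠ 0) :
    commutator (oGroup Q) ≤ M := by
  have hn5 : 5 ≤ Module.finrank F V := by omega
  have hneg : ∀ r : F, -r = r := fun r => by
    rw [neg_eq_iff_add_eq_zero, ← two_mul, h2, zero_mul]
  have huw : polar Q u w = 0 := hw u hu
  obtain ⟨hQw, hstab⟩ := siegel_eq_refl_pair h2 huw hQu hQx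
  have huu : polar Q u u = 0 := by rw [polar_self, two_nsmul, ← two_mul, h2, zero_mul]
  have hwu : polar Q w u = 0 := by rw [polar_comm]; exact huw
  set x := u + w with hxdef
  have hxu : polar Q x u = 0 := by rw [hxdef, polar_add_left, huu, hwu, add_zero]
  have heu : polar Q e u = 0 := by rw [polar_comm]; exact hue
  have hew : polar Q e w = 0 := hw e he
  have hex : polar Q e x = 0 := by rw [hxdef, polar_add_right, heu, hew, add_zero]
  set a := Q u
  set β := polar Q b e
  set c := (a * β)⁻¹ • u with hcdef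
  have hec : polar Q e c = 0 := by rw [hcdef, polar_smul_right, heu, smul_zero]
  have hcX : c ∈ X := X.smul_mem _ hu
  have hecM : siegel Q e c ∈ M := siegel_mem_side hQ hn hU hU4 hp hm hM hX he hcX hQe hec
  have h1 := siegel_conj_mem h hQe hec hecM
  have e1 : (siegel Q x b).1 e = e + β • x := by
    rw [siegel_apply hQx hxb, hex, zero_smul, add_zero, mul_zero, add_zero, polar_comm (⇑Q) e b,
      sub_eq_add_neg, ← neg_smul, hneg]
  have e2 : (siegel Q x b).1 c = c := by
    refine siegel_fix hQx hxb ?_ ?_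
    · rw [hcdef, polar_smul_left, polar_comm, hxu, smul_zero]
    · rw [hcdef, polar_smul_left, polar_comm, hbu, smul_zero]
  rw [e1, e2] at h1
  have hxc : polar Q (β • x) c = 0 := by
    rw [hcdef, polar_smul_left, polar_smul_right, hxu, smul_zero, smul_zero]
  rw [siegel_split h2 hQe (by rw [quad_smul, hQx, mul_zero])
    (by rw [polar_smul_right, hex, smul_zero]) hec hxc] at h1
  have hB : siegel Q (β • x) c ∈ M := by
    rw [hcdef, siegel_smul hQx (by rw [polar_smul_right, hxu, smul_zero]), smul_smul,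
      show β * (a * β)⁻¹ = a⁻¹ by field_simp, hstab]
    refine hM ⟨?_, refl_pair_mem_commutator hQ hQu (hQw ▸ hQu) (hQw ▸ IsSquare.mul_self _)⟩
    rcases hX with rfl | rfl
    · exact mul_mem (refl_mem_stabO hQ (Or.inl hu)) (refl_mem_stabO hQ (Or.inr hw))
    · exact mul_mem (refl_mem_stabO hQ (Or.inr hu))
        (refl_mem_stabO hQ (Or.inl (by rwa [perpS_perpS hQ] at hw)))
  have h3 := (mul_mem_cancel_right hecM).1 ((mul_mem_cancel_right hB).1 h1)
  set κ := Q c * β with hκ
  have hκ0 : κ ≠ 0 := by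
    rw [hκ, hcdef, quad_smul]
    exact mul_ne_zero (mul_ne_zero (mul_ne_zero (inv_ne_zero (mul_ne_zero hQu hbe))
      (inv_ne_zero (mul_ne_zero hQu hbe))) hQu) hbe
  rw [smul_smul, hxdef, smul_add, ← siegel_mul hQe (by rw [polar_smul_right, heu, smul_zero])
    (by rw [polar_smul_right, hew, smul_zero])] at h3
  have hw0 : w ≠ 0 := fun h0 => hQu (by rwa [hxdef, h0, add_zero] at hQx)
  exact le_of_mixed hQ hn hU hU4 hp hm hM hX he (fun h0 => hbe (by
      change polar Q b e = 0
      rw [h0, polar_zero_right])) hQe (b := κ • w)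
    (Submodule.smul_mem _ _ hw) (smul_ne_zero hκ0 hw0)
    ((mul_mem_cancel_left (siegel_mem_side hQ hn hU hU4 hp hm hM hX he (X.smul_mem _ hu) hQe
      (by rw [polar_smul_right, heu, smul_zero]))).1 h3)

/-- The key property. -/
theorem key (hnle : ¬ M ≤ stabO Q U) : commutator (oGroup Q) ≤ M := by
  have hn5 : 5 ≤ Module.finrank F V := by omega
  set W := perpS Q U with hWdef
  have hW : ND Q W := ND.perp hQ hU
  have hW4 : Module.finrank F W = 4 := by have := finrank_perpS hQ U; rw [hWdef]; omega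
  by_contra hM'
  obtain ⟨g, hg, hgU⟩ := SetLike.not_le_iff_exists.1 hnle
  set U' := U.map g.1.toLinearMap with hU'def
  have hU' : ND Q U' := ND.map hQ hU g
  have hU'4 : Module.finrank F U' = 4 := (LinearEquiv.finrank_map_eq g.1 U).trans hU4
  have hmemS : ∀ (Y : Submodule F V), (Y = U ∨ Y = W) → ∀ x ∈ Y.map g.1.toLinearMap, Q x = 0 →
      ∀ b ∈ Y.map g.1.toLinearMap, polar Q x b = 0 → siegel Q x b ∈ M := by
    rintro Y hY _ ⟨x, hx, rfl⟩ hQx _ ⟨b, hb, rfl⟩ hxb
    have hx' : Q x = 0 := (g.2 x).symm.trans hQx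
    have hxb' : polar Q x b = 0 := (polar_oGroup g x b).symm.trans hxb
    exact siegel_conj_mem hg hx' hxb' (siegel_mem_side hQ hn hU hU4 hp hm hM hY hx hb hx' hxb')
  have hmem := hmemS U (Or.inl rfl)
  have hp' : IsPlus Q U' := by
    rintro _ ⟨z, hz, rfl⟩ hQz
    obtain ⟨l, hl, hQl, hzl, hln⟩ := hp z hz ((g.2 z).symm.trans hQz)
    refine ⟨g.1 l, ⟨l, hl, rfl⟩, (g.2 l).trans hQl, (polar_oGroup g z l).trans hzl, fun h => hln ?_⟩
    obtain ⟨t, ht⟩ := Submodule.mem_span_singleton.1 h
    exact Submodule.mem_span_singleton.2 ⟨t, g.1.injective (by rw [map_smul]; exact ht)⟩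
  have hK : ∀ X, (X = U ∨ X = W) → ∀ x ∈ U', x ∈ X → x ≠ 0 → Q x = 0 →
      ∀ b ∈ U', polar Q x b = 0 → b ∈ X := by
    intro X hX x hx' hx hx0 hQx b hb hxb
    have hXnd : ND Q X := by rcases hX with rfl | rfl; exacts [hU, hW]
    by_contra hbX
    obtain ⟨p, hp1, q, hq, rfl⟩ := ND.decomp hQ hXnd b
    have hxq : polar Q x q = 0 := hq x hx
    have hxp : polar Q x p = 0 := by rwa [polar_add_right, hxq, add_zero] at hxb
    have h := hmem x hx' hQx _ hb hxb
    rw [← siegel_mul hQx hxp hxq] at h
    refine hM' (le_of_mixed hQ hn hU hU4 hp hm hM hX hx hx0 hQx hq (fun h0 => hbX ?_)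
      ((mul_mem_cancel_left (siegel_mem_side hQ hn hU hU4 hp hm hM hX hx hp1 hQx hxp)).1 h))
    rw [h0, add_zero]; exact hp1
  have hnU : ¬ U' ≤ U := fun h => hgU (mem_stabO_of_le fun x hx => h ⟨x, hx, rfl⟩)
  have hcU : ∀ x ∈ U', x ∈ U → Q x = 0 → x = 0 := by
    intro x hx' hx hQx
    by_contra hx0
    obtain ⟨z, hz', hQz, hxz, hzn⟩ := hp' x hx' hQx
    have hzU := hK U (Or.inl rfl) x hx' hx hx0 hQx z hz' hxz
    have hz0 : z ≠ 0 := fun h => hzn (h ▸ Submodule.zero_mem _)
    obtain ⟨p, hp1, hpx, hzp⟩ := ND.partner_perp hQ hU'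
      ((Submodule.span_singleton_le_iff_mem _ _).2 hx') hz' hzn
    have hpU := hK U (Or.inl rfl) x hx' hx hx0 hQx p hp1 (hpx x (Submodule.mem_span_singleton_self x))
    refine hnU fun v hv => ?_
    have h1 := hK U (Or.inl rfl) z hz' hzU hz0 hQz (v - (polar Q z v / polar Q z p) • p)
      (U'.sub_mem hv (U'.smul_mem _ hp1))
      (by rw [polar_sub_right, polar_smul_right, smul_eq_mul, div_mul_cancel₀ _ hzp, sub_self])
    have h3 := U.add_mem h1 (U.smul_mem (polar Q z v / polar Q z p) hpU)
    rwa [sub_add_cancel] at h3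
  have hcW : ∀ x ∈ U', x ∈ W → Q x = 0 → x = 0 := by
    intro x hx' hx hQx
    by_contra hx0
    obtain ⟨z, hz', hQz, hxz, hzn⟩ := hp' x hx' hQx
    exact hzn (hm x hx z (hK W (Or.inr rfl) x hx' hx hx0 hQx z hz' hxz) hQx hQz hxz hx0)
  set π := U.projection W (ND.isCompl hQ hU)
  have hπU : ∀ b, π b ∈ U := fun b => Submodule.projection_apply_mem _ b
  have hπW : ∀ b, b - π b ∈ W := fun b => Submodule.sub_projection_mem _ b
  have hsplit : ∀ b, ∀ a ∈ U, polar Q b a = polar Q (π b) a := fun b a ha => by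
    have h0 : polar Q (b - π b) a = 0 := by rw [polar_comm]; exact hπW b a ha
    rw [polar_sub_left, sub_eq_zero] at h0
    exact h0
  have hline : ∀ x ∈ U', Q x = 0 → x ≠ 0 → ∀ v ∈ U, v ≠ 0 → Q v = 0 → polar Q x v = 0 →
      siegel Q x v ∈ M → False := fun x hx hQx hx0 v hv hv0 hQv hxv h =>
    hM' (le_of_line hQ hn hU hU4 hp hm hM (Or.inl rfl) hv hv0 hQv hQx hxv
      (fun hxU => hx0 (hcU x hx hxU hQx)) h)
  -- an element of the stabiliser fixing `x` moves `l`
  have hmove : ∀ x l, x ∈ U' → Q x = 0 → l ∈ U' → polar Q x l = 0 →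
      ∀ e c, e ∈ U → c ∈ U → Q e = 0 → polar Q e c = 0 → polar Q (π x) e = 0 →
      polar Q (π x) c = 0 →
      polar Q x (polar Q l e • c - (polar Q l c + Q c * polar Q l e) • e) = 0 ∧
      siegel Q x (polar Q l e • c - (polar Q l c + Q c * polar Q l e) • e) ∈ M := by
    intro x l hx hQx hl hxl e c he hc hQe hec hue huc
    have hs := siegel_mem_side hQ hn hU hU4 hp hm hM (Or.inl rfl) he hc hQe hec
    have hxe : polar Q x e = 0 := (hsplit x e he).trans hue
    have hxc : polar Q x c = 0 := (hsplit x c hc).trans huc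
    have h1 := siegel_conj_mem hs hQx hxl (hmem x hx hQx l hl hxl)
    rw [siegel_fix hQe hec hxe hxc] at h1
    have hxd : polar Q x (polar Q l e • c - (polar Q l c + Q c * polar Q l e) • e) = 0 := by
      rw [polar_sub_right, polar_smul_right, polar_smul_right, hxe, hxc, smul_zero, smul_zero,
        sub_zero]
    refine ⟨hxd, ?_⟩
    have h3 := mul_mem h1 (inv_mem (hmem x hx hQx l hl hxl))
    rw [siegel_inv hQx hxl, siegel_mul hQx
        (by rw [siegel_apply hQe hec, add_sub_assoc, polar_add_right, hxl, zero_add]; exact hxd)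
        (by rw [polar_neg_right, hxl, neg_zero]),
      siegel_apply hQe hec, add_sub_assoc, add_neg_eq_iff_eq_add.2 (add_comm l _)] at h3
    exact h3
  -- singular components
  have hAB : ∀ x ∈ U', Q x = 0 → Q (π x) = 0 → x = 0 := by
    intro x hx hQx hQu
    by_contra hx0
    set u := π x with hu_def
    have hu : u ∈ U := hπU x
    have hu0 : u ≠ 0 := fun h => hx0 (hcW x hx (by
      have := hπW x; rwa [← hu_def, h, sub_zero] at this) hQx)
    have huu : polar Q u u = 0 := by rw [polar_self, hQu, smul_zero]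
    obtain ⟨l, hl, hQl, hxl, hln⟩ := hp' x hx hQx
    obtain ⟨c, hc, hQc, huc, hcn⟩ := hp u hu hQu
    by_cases hlu : polar Q l u = 0
    swap
    · obtain ⟨h4, h3⟩ := hmove x l hx hQx hl hxl u c hu hc hQu huc huu huc
      rw [hQc, zero_mul, add_zero] at h4 h3
      refine hline x hx hQx hx0 _ (U.sub_mem (U.smul_mem _ hc) (U.smul_mem _ hu)) (fun h0 => hcn ?_)
        ?_ h4 h3
      · rw [sub_eq_zero] at h0
        have : c = ((polar Q l u)⁻¹ * polar Q l c) • u := by
          rw [← smul_smul, ← h0, smul_smul, inv_mul_cancel₀ hlu, one_smul]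
        rw [this]
        exact Submodule.smul_mem _ _ (Submodule.mem_span_singleton_self u)
      · rw [sub_eq_add_neg, ← neg_smul, quad_add, quad_smul, quad_smul, hQc, hQu, polar_smul_left,
          polar_smul_right, polar_comm (⇑Q) c u, huc]
        simp
    by_cases hlπ : π l ∈ Submodule.span F {u}
    · obtain ⟨t, ht⟩ := Submodule.mem_span_singleton.1 hlπ
      refine hln (Submodule.mem_span_singleton.2 ⟨t, (sub_eq_zero.1 (hcW (l - t • x)
        (U'.sub_mem hl (U'.smul_mem _ hx)) ?_ ?_)).symm⟩)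
      · rw [show l - t • x = (l - π l) - t • (x - u) by rw [smul_sub, ← ht]; abel]
        exact W.sub_mem (hπW l) (W.smul_mem _ (hπW x))
      · rw [sub_eq_add_neg, ← neg_smul, quad_add, quad_smul, hQl, hQx, polar_smul_right,
          polar_comm, hxl]
        simp
    obtain ⟨y, hy, hyu, hby⟩ := ND.partner_perp hQ hU
      ((Submodule.span_singleton_le_iff_mem _ _).2 hu) (hπU l) hlπ
    obtain ⟨e, he, hQe, hue, hbe⟩ : ∃ e ∈ U, Q e = 0 ∧ polar Q u e = 0 ∧ polar Q (π l) e ≠ 0 := by
      by_cases hbs : polar Q (π l) c = 0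
      swap
      · exact ⟨c, hc, hQc, huc, hbs⟩
      obtain ⟨z, hz, hzu, hsz⟩ := ND.partner_perp hQ hU
        ((Submodule.span_singleton_le_iff_mem _ _).2 hu) hc hcn
      have hyu' : polar Q u y = 0 := hyu u (Submodule.mem_span_singleton_self u)
      have hzu' : polar Q u z = 0 := hzu u (Submodule.mem_span_singleton_self u)
      obtain ⟨q, hq', huq, hbq, hsq⟩ : ∃ q ∈ U, polar Q u q = 0 ∧ polar Q (π l) q ≠ 0 ∧
          polar Q c q ≠ 0 := by
        by_cases hbz : polar Q (π l) z = 0
        swap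
        · exact ⟨z, hz, hzu', hbz, hsz⟩
        by_cases hsy : polar Q c y = 0
        swap
        · exact ⟨y, hy, hyu', hby, hsy⟩
        exact ⟨y + z, U.add_mem hy hz, by rw [polar_add_right, hyu', hzu', add_zero],
          by rw [polar_add_right, hbz, add_zero]; exact hby,
          by rw [polar_add_right, hsy, zero_add]; exact hsz⟩
      refine ⟨q + (-(Q q / polar Q c q)) • c, U.add_mem hq' (U.smul_mem _ hc), ?_, ?_, ?_⟩
      · rw [quad_add, quad_smul, hQc, polar_smul_right, polar_comm (⇑Q) q c, smul_eq_mul]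
        field_simp; ring
      · rw [polar_add_right, polar_smul_right, huq, huc, smul_zero, add_zero]
      · rw [polar_add_right, polar_smul_right, hbs, smul_zero, add_zero]; exact hbq
    obtain ⟨h4, h3⟩ := hmove x l hx hQx hl hxl e u he hu hQe (by rw [polar_comm]; exact hue) hue huu
    rw [hlu, hQu, zero_mul, add_zero, zero_smul, sub_zero] at h4 h3
    exact hline x hx hQx hx0 _ (U.smul_mem _ hu)
      (smul_ne_zero (by rw [hsplit l e he]; exact hbe) hu0) (by rw [quad_smul, hQu, mul_zero]) h4 h3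
  by_cases h2 : (2 : F) = 0
  swap
  · -- odd characteristic
    obtain ⟨x, hx, hx0, hQx⟩ := exists_singular_of_three (Q := Q) U' (by omega)
    set u := π x with hu_def
    have hu : u ∈ U := hπU x
    have hQu : Q u ≠ 0 := fun h => hx0 (hAB x hx hQx h)
    obtain ⟨l, hl, hQl, hxl, hln⟩ := hp' x hx hQx
    by_cases hlπ : π l ∈ Submodule.span F {u}
    · obtain ⟨t, ht⟩ := Submodule.mem_span_singleton.1 hlπ
      refine hln (Submodule.mem_span_singleton.2 ⟨t, (sub_eq_zero.1 (hcW (l - t • x)
        (U'.sub_mem hl (U'.smul_mem _ hx)) ?_ ?_)).symm⟩)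
      · rw [show l - t • x = (l - π l) - t • (x - u) by rw [smul_sub, ← ht]; abel]
        exact W.sub_mem (hπW l) (W.smul_mem _ (hπW x))
      · rw [sub_eq_add_neg, ← neg_smul, quad_add, quad_smul, hQl, hQx, polar_smul_right,
          polar_comm, hxl]
        simp
    obtain ⟨e, he, hQe, hue, hde⟩ := exists_singular_perp hQ hU hU4.ge hu (hπU l) hQu hlπ
    obtain ⟨hU0, hU0d⟩ := nd_inf_perp hQ hU ((Submodule.span_singleton_le_iff_mem _ _).2 hu)
      (CfsgLib.Geo.OS.nd_line h2 hQu)
    have hu0 : u ≠ 0 := fun h => hQu (by rw [h, QuadraticMap.map_zero])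
    have h3' : 3 ≤ Module.finrank F ↥(U ⊓ perpS Q (Submodule.span F {u})) := by
      have := finrank_span_singleton (K := F) hu0
      omega
    obtain ⟨z, hz, hez, hzn⟩ := NDLow.exists_perp_outside hQ h2
      (X := U ⊓ perpS Q (Submodule.span F {u})) e h3'
    have he' : e ∈ U ⊓ perpS Q (Submodule.span F {u}) := ⟨he, fun h hh => by
      obtain ⟨s, rfl⟩ := Submodule.mem_span_singleton.1 hh
      rw [polar_smul_left, hue, smul_zero]⟩
    obtain ⟨c, hc, hec, hQc⟩ := NDLow.aniso_perp hQ h2 hU0 he' hz hez hzn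
    have huc : polar Q u c = 0 := hc.2 u (Submodule.mem_span_singleton_self u)
    obtain ⟨a1, b1⟩ := hmove x l hx hQx hl hxl e c he hc.1 hQe hec hue huc
    obtain ⟨a2, b2⟩ := hmove x l hx hQx hl hxl e (c + c) he (U.add_mem hc.1 hc.1) hQe
      (by rw [polar_add_right, hec, add_zero]) hue (by rw [polar_add_right, huc, add_zero])
    set v1 := polar Q l e • c - (polar Q l c + Q c * polar Q l e) • e
    set v2 := polar Q l e • (c + c) - (polar Q l (c + c) + Q (c + c) * polar Q l e) • e
    have hn1 : polar Q x (-v1) = 0 := by rw [polar_neg_right, a1, neg_zero]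
    have b3 := mul_mem (mul_mem b2 (inv_mem b1)) (inv_mem b1)
    rw [siegel_inv hQx a1, siegel_mul hQx a2 hn1,
      siegel_mul hQx (by rw [polar_add_right, a2, hn1, add_zero]) hn1] at b3
    have hv : v2 + -v1 + -v1 = (-(2 * Q c * polar Q l e)) • e := by
      simp only [v1, v2, polar_add_right, quad_add, polar_self, two_nsmul]
      module
    rw [hv] at b3
    refine hline x hx hQx hx0 _ (U.smul_mem _ he) (smul_ne_zero ?_ fun h => hde (by
      rw [h, polar_zero_right])) (by rw [quad_smul, hQe, mul_zero])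
      (by rw [polar_smul_right, hsplit x e he, hue, smul_zero]) b3
    rw [neg_ne_zero, hsplit l e he]
    exact mul_ne_zero (mul_ne_zero h2 hQc) hde
  -- characteristic two: the projection maps `U'` to itself
  have hproj : ∀ x ∈ U', Q x = 0 → π x ∈ U' := by
    intro x hx hQx
    by_cases hQu : Q (π x) = 0
    · rw [hAB x hx hQx hQu, map_zero]; exact U'.zero_mem
    set u := π x with hu_def
    set w := x - u with hw_def
    have hu : u ∈ U := hπU x
    have hw : w ∈ W := hπW x
    have hxe : u + w = x := add_sub_cancel u x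
    have huu : polar Q u u = 0 := by rw [polar_self, two_nsmul, ← two_mul, h2, zero_mul]
    have huw : polar Q u w = 0 := hw u hu
    have hwu : polar Q w u = 0 := by rw [polar_comm]; exact huw
    have hQw : Q w = Q u := (siegel_eq_refl_pair h2 huw hQu (by rw [hxe]; exact hQx)).1
    have hw0 : w ≠ 0 := fun h => hQu (by rw [h, QuadraticMap.map_zero] at hQw; exact hQw.symm)
    set K := U' ⊓ perpS Q (Submodule.span F {x}) ⊓ perpS Q (Submodule.span F {u})
    by_cases hle : K ≤ Submodule.span F {u, w}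
    · have k1 := ND.finrank_inf_perp_singleton hQ U' x
      have k2 := ND.finrank_inf_perp_singleton hQ (U' ⊓ perpS Q (Submodule.span F {x})) u
      have k3 : Module.finrank F (Submodule.span F {u, w}) ≤ 2 := by
        classical
        refine (finrank_span_le_card ({u, w} : Set V)).trans ?_
        simp only [Set.toFinset_insert, Set.toFinset_singleton]
        exact Finset.card_le_two
      have heq : K = Submodule.span F {u, w} := Submodule.eq_of_le_of_finrank_le hle (by
        change Module.finrank F (Submodule.span F {u, w}) ≤ Module.finrank F K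
        change Module.finrank F U' ≤ Module.finrank F ↥(U' ⊓ perpS Q (Submodule.span F {x})) + 1 at k1
        change Module.finrank F ↥(U' ⊓ perpS Q (Submodule.span F {x})) ≤ Module.finrank F K + 1 at k2
        omega)
      have : u ∈ K := heq ▸ Submodule.subset_span (Set.mem_insert u _)
      exact this.1.1
    exfalso
    obtain ⟨b, hb, hbn⟩ := SetLike.not_le_iff_exists.1 hle
    have hxb : polar Q x b = 0 := hb.1.2 x (Submodule.mem_span_singleton_self x)
    have hub : polar Q u b = 0 := hb.2 u (Submodule.mem_span_singleton_self u)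
    have hbM := hmem x hx hQx b hb.1.1 hxb
    have hwb : polar Q w b = 0 := by rw [hw_def, polar_sub_left, hxb, hub, sub_zero]
    by_cases hbu : π b ∈ Submodule.span F {u}
    swap
    · obtain ⟨e, he, hQe, hue, hde⟩ := exists_singular_perp hQ hU hU4.ge hu (hπU b) hQu hbu
      refine hM' (le_of_aniso_two hQ hn hU hU4 hp hm hM h2 (Or.inl rfl) (u := u) (w := w) (b := b)
        hu hw hQu (by rw [hxe]; exact hQx) (by rw [hxe]; exact hxb) (by rw [polar_comm]; exact hub)
        (by rw [hxe]; exact hbM) he hQe hue (by rw [hsplit b e he]; exact hde))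
    by_cases hbw : b - π b ∈ Submodule.span F {w}
    · refine hbn ?_
      rw [← add_sub_cancel (π b) b]
      exact Submodule.add_mem _ (Submodule.span_mono (by simp) hbu)
        (Submodule.span_mono (by simp) hbw)
    obtain ⟨e, he, hQe, hwe, hde⟩ := exists_singular_perp hQ hW hW4.ge hw (hπW b) (hQw ▸ hQu) hbw
    have hbe : polar Q b e ≠ 0 := by
      rw [polar_sub_left, show polar Q (π b) e = 0 from he _ (hπU b), sub_zero] at hde
      exact hde
    exact hM' (le_of_aniso_two hQ hn hU hU4 hp hm hM h2 (Or.inr rfl) (u := w) (w := u) (b := b)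
      hw (by rw [perpS_perpS hQ]; exact hu) (hQw ▸ hQu) (by rw [add_comm, hxe]; exact hQx)
      (by rw [add_comm, hxe]; exact hxb) (by rw [polar_comm]; exact hwb)
      (by rw [add_comm, hxe]; exact hbM) he hQe hwe hbe)
  obtain ⟨x0, hx0', hx00, hQx0⟩ := exists_singular_of_three (Q := Q) U' (by omega)
  obtain ⟨y0, hy0, hxy0⟩ := ND.partner hU' hx0' hx00
  have hπ' : ∀ v ∈ U', π v ∈ U' := by
    intro v hv
    rw [← span_singular_eq hQ hx0' hy0 hQx0 hxy0] at hv
    induction hv using Submodule.span_induction with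
    | mem a ha => exact hproj a ha.1 ha.2
    | zero => rw [map_zero]; exact U'.zero_mem
    | add a a' _ _ h h' => rw [map_add]; exact U'.add_mem h h'
    | smul t a _ h => rw [map_smul]; exact U'.smul_mem _ h
  set A := U' ⊓ U
  set B := U' ⊓ W
  have hAB' : U' ≤ A ⊔ B := fun v hv => Submodule.mem_sup.2 ⟨π v, ⟨hπ' v hv, hπU v⟩, v - π v,
    ⟨U'.sub_mem hv (hπ' v hv), hπW v⟩, add_sub_cancel _ _⟩
  have hA2 : Module.finrank F A ≤ 2 := by
    by_contra h
    obtain ⟨z, hz, hz0, hQz⟩ := exists_singular_of_three (Q := Q) A (by omega)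
    exact hz0 (hcU z hz.1 hz.2 hQz)
  have hB2 : Module.finrank F B ≤ 2 := by
    by_contra h
    obtain ⟨z, hz, hz0, hQz⟩ := exists_singular_of_three (Q := Q) B (by omega)
    exact hz0 (hcW z hz.1 hz.2 hQz)
  have hdim := Submodule.finrank_mono hAB'
  have hdim' := Submodule.finrank_add_le_finrank_add_finrank A B
  have hndB : ND Q B := (Submodule.eq_bot_iff _).2 fun v hv => ND.eq_zero hU' hv.1.1 fun y hy => by
    obtain ⟨p, hp1, q, hq, rfl⟩ := Submodule.mem_sup.1 (hAB' hy)
    rw [polar_add_left, hv.2 q hq, show polar Q p v = 0 from hv.1.2 p hp1.2, add_zero]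
  have hndA : ND Q A := (Submodule.eq_bot_iff _).2 fun v hv => ND.eq_zero hU' hv.1.1 fun y hy => by
    obtain ⟨p, hp1, q, hq, rfl⟩ := Submodule.mem_sup.1 (hAB' hy)
    rw [polar_add_left, hv.2 p hp1, zero_add, polar_comm]
    exact hq.2 v hv.1.2
  obtain ⟨hB', hB'd⟩ := nd_inf_perp hQ hW inf_le_right hndB
  obtain ⟨-, hA'd⟩ := nd_inf_perp hQ hU inf_le_right hndA
  change Module.finrank F ↥(W ⊓ perpS Q B) + Module.finrank F B = Module.finrank F W at hB'd
  change Module.finrank F ↥(U ⊓ perpS Q A) + Module.finrank F A = Module.finrank F U at hA'd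
  have hAd : Module.finrank F A = 2 := by omega
  have hBd : Module.finrank F B = 2 := by omega
  obtain ⟨z, hz, hz0, hQz⟩ : ∃ z ∈ W ⊓ perpS Q B, z ≠ 0 ∧ Q z = 0 := by
    by_contra hc
    push Not at hc
    obtain ⟨T, hT, hT0, hTd⟩ := ts_pair hndB hB' inf_le_right hBd
      (by change Module.finrank F ↥(W ⊓ perpS Q B) = 2; omega)
      (fun v hv hQv => hcW v hv.1 hv.2 hQv) (fun v hv hQv => by_contra fun h => hc v hv h hQv)
    obtain ⟨t0, ht0, ht00⟩ := Submodule.exists_mem_ne_zero_of_ne_bot (p := T) fun h => by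
      rw [h, finrank_bot] at hTd; omega
    have hTW : T ≤ W := hT.trans (sup_le inf_le_right inf_le_left)
    have hle : T ≤ Submodule.span F {t0} := fun t ht => hm t0 (hTW ht0) t (hTW ht) (hT0 _ ht0)
      (hT0 _ ht) (CfsgLib.Geo.OS.polar_eq_zero_of_singular hT0 ht0 ht) ht00
    have := Submodule.finrank_mono hle
    rw [finrank_span_singleton ht00] at this
    omega
  obtain ⟨a, ha, ha0⟩ := Submodule.exists_mem_ne_zero_of_ne_bot (p := U ⊓ perpS Q A) fun h => by
    rw [h, finrank_bot] at hA'd; omega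
  -- both lie in the image of `W`
  have himg : ∀ v, (∀ y ∈ U', polar Q y v = 0) → v ∈ W.map g.1.toLinearMap := fun v hv => by
    refine ⟨g.1.symm v, fun y hy => ?_, g.1.apply_symm_apply v⟩
    rw [← polar_oGroup g, g.1.apply_symm_apply]
    exact hv _ ⟨y, hy, rfl⟩
  have hzU' : ∀ y ∈ U', polar Q y z = 0 := fun y hy => by
    obtain ⟨p, hp1, q, hq, rfl⟩ := Submodule.mem_sup.1 (hAB' hy)
    rw [polar_add_left, hz.2 q hq, show polar Q p z = 0 from hz.1 p hp1.2, add_zero]
  have haU' : ∀ y ∈ U', polar Q y a = 0 := fun y hy => by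
    obtain ⟨p, hp1, q, hq, rfl⟩ := Submodule.mem_sup.1 (hAB' hy)
    rw [polar_add_left, ha.2 p hp1, zero_add, polar_comm]
    exact hq.2 a ha.1
  have hza : polar Q z a = 0 := by rw [polar_comm]; exact hz.1 a ha.1
  exact hM' (le_of_mixed hQ hn hU hU4 hp hm hM (Or.inr rfl) hz.1 hz0 hQz (b := a)
    (by rw [perpS_perpS hQ]; exact ha.1) ha0
    (hmemS W (Or.inr rfl) z (himg z hzU') hQz a (himg a haU') hza))

omit hM

/-- Maximality. -/
theorem maximal :
    Cfsg.Geo.IsMaximalIn (commutator (oGroup Q)) (stabO Q U ⊓ commutator (oGroup Q)) := by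
  refine isMaximalIn_of ?_ fun _ a _ c => key hQ hn hU hU4 hp hm a c
  intro hle
  have hsum := finrank_perpS hQ U
  obtain ⟨b, hb, hb0⟩ := Submodule.exists_mem_ne_zero_of_ne_bot (p := perpS Q U)
    fun h => by rw [h, finrank_bot] at hsum; omega
  obtain ⟨u, hu, hu0, hQu⟩ := exists_singular_of_three (Q := Q) U (by omega)
  obtain ⟨y, hy, huy⟩ := ND.partner hU hu hu0
  have hub : polar Q u b = 0 := hb u hu
  have h := (hle (siegel_mem_commutator hQ (by omega) hQu hub) y).2 hy
  rw [siegel_apply hQu hub] at h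
  have h4 := U.add_mem h (U.smul_mem (polar Q y b + Q b * polar Q y u) hu)
  rw [sub_add_cancel] at h4
  have h3 := U.sub_mem h4 hy
  rw [add_sub_cancel_left] at h3
  exact smul_ne_zero (by rwa [polar_comm]) hb0 (ND.eq_zero hU h3 (Submodule.smul_mem _ _ hb))

end CfsgLib.Geo.OS.FourFour
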