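import Cfsg.Agent.Geo.OrthFourFour.Main

/-!
In eight dimensions without a totally singular four-space, a non-degenerate four-space and its
orthogonal space are of different types.
-/

set_option autoImplicit false
set_option linter.unusedSectionVars false
set_option linter.style.longLine false

namespace CfsgLib.Geo.OS.FourFour

open QuadraticMap CfsgLib.Forms CfsgLib.Quad CfsgLib.Geo.OS

variable {F V : Type*} [Field F] [AddCommGroup V] [Module F V] [FiniteDimensional F V] [Finite F]
  {Q : QuadraticForm F V} (hQ : (polarBilin Q).Nondegenerate)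

theorem quad_sup_zero {A B : Submodule F V} (hA : ∀ x ∈ A, Q x = 0) (hB : ∀ x ∈ B, Q x = 0)
    (hAB : ∀ a ∈ A, ∀ b ∈ B, polar Q a b = 0) : ∀ x ∈ A ⊔ B, Q x = 0 := by
  intro x hx
  obtain ⟨a, ha, b, hb, rfl⟩ := Submodule.mem_sup.1 hx
  rw [quad_add, hA a ha, hB b hb, hAB a ha b hb, add_zero, add_zero]

theorem quad_pair_zero {a b : V} (ha : Q a = 0) (hb : Q b = 0) (hab : polar Q a b = 0) :
    ∀ x ∈ Submodule.span F {a, b}, Q x = 0 := fun x hx => by
  obtain ⟨s, t, rfl⟩ := Submodule.mem_span_pair.1 hx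
  rw [quad_add, quad_smul, quad_smul, ha, hb, polar_smul_left, polar_smul_right, hab]; simp

theorem finrank_two {a b : V} (ha : a ≠ 0) (hb : b ∉ Submodule.span F {a}) :
    Module.finrank F (Submodule.span F {a, b}) = 2 := by
  have hli : LinearIndependent F ![a, b] :=
    (LinearIndependent.pair_iff' ha).2 fun t ht =>
      hb (Submodule.mem_span_singleton.2 ⟨t, ht⟩)
  have := finrank_span_eq_card hli
  rw [Matrix.range_cons_cons_empty] at this
  simpa using this

include hQ

theorem isPlus_of_not_isMinus {X : Submodule F V} (h : ¬ IsMinus Q X) : IsPlus Q X := by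
  have _ := hQ
  unfold IsMinus at h
  push Not at h
  obtain ⟨a, ha, b, hb, hQa, hQb, hab, ha0, hbn⟩ := h
  intro z hz hQz
  set L := Submodule.span F {a, b}
  have haL : a ∈ L := Submodule.subset_span (Set.mem_insert _ _)
  have hbL : b ∈ L := Submodule.subset_span (Set.mem_insert_of_mem _ rfl)
  have hLX : L ≤ X := Submodule.span_le.2 (by rintro _ (rfl | rfl); exacts [ha, hb])
  have hL0 := quad_pair_zero hQa hQb hab
  by_cases hzL : z ∈ L
  · have hpol : ∀ l ∈ L, polar Q z l = 0 := fun l hl =>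
      polar_eq_zero_of_singular hL0 hzL hl
    by_cases haz : a ∈ Submodule.span F {z}
    · refine ⟨b, hb, hQb, hpol b hbL, fun hbz => hbn ?_⟩
      obtain ⟨s, rfl⟩ := Submodule.mem_span_singleton.1 haz
      obtain ⟨t, rfl⟩ := Submodule.mem_span_singleton.1 hbz
      refine Submodule.mem_span_singleton.2 ⟨t / s, ?_⟩
      rw [smul_smul, div_mul_cancel₀ _ (left_ne_zero_of_smul ha0)]
    · exact ⟨a, ha, hQa, hpol a haL, haz⟩
  obtain ⟨l, hl, hl0⟩ := Submodule.exists_mem_ne_zero_of_ne_bot
    (p := L ⊓ perpS Q (Submodule.span F {z})) fun e => by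
      have h1 := ND.finrank_inf_perp_singleton hQ L z
      rw [e, finrank_bot, finrank_two ha0 hbn] at h1
      omega
  refine ⟨l, hLX hl.1, hL0 l hl.1, hl.2 z (Submodule.mem_span_singleton_self z), fun hlz => hzL ?_⟩
  obtain ⟨t, ht⟩ := Submodule.mem_span_singleton.1 hlz
  have ht0 : t ≠ 0 := fun e => hl0 (by rw [← ht, e, zero_smul])
  have := L.smul_mem t⁻¹ hl.1
  rwa [← ht, smul_smul, inv_mul_cancel₀ ht0, one_smul] at this

theorem exists_plane_split {X : Submodule F V} (hX : ND Q X) (hX4 : Module.finrank F X = 4)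
    (hm : IsMinus Q X) :
    ∃ (z f : V) (E : Submodule F V), z ∈ X ∧ f ∈ X ∧ z ≠ 0 ∧ Q z = 0 ∧ polar Q z f ≠ 0 ∧ E ≤ X ∧
      (∀ e ∈ E, polar Q z e = 0 ∧ polar Q f e = 0) ∧ ND Q E ∧ Module.finrank F E = 2 ∧
      ∀ e ∈ E, Q e = 0 → e = 0 := by
  obtain ⟨z, hz, hz0, hQz⟩ := exists_singular_of_three (Q := Q) X (by omega)
  obtain ⟨f, hf, hQf, hzf⟩ := ND.singular_partner hX hz hz0 hQz
  obtain ⟨hP, hP2⟩ := nd_pair hQ hQz hQf hzf
  obtain ⟨hE, hEd⟩ := nd_inf_perp hQ hX (Submodule.span_le.2 (by
    rintro _ (rfl | rfl); exacts [hz, hf])) hP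
  have hperp : ∀ e ∈ X ⊓ perpS Q (Submodule.span F {z, f}), polar Q z e = 0 ∧ polar Q f e = 0 :=
    fun e he => ⟨he.2 z (Submodule.subset_span (Set.mem_insert _ _)),
      he.2 f (Submodule.subset_span (Set.mem_insert_of_mem _ rfl))⟩
  refine ⟨z, f, _, hz, hf, hz0, hQz, hzf, inf_le_left, hperp, hE, by omega, fun e he hQe => ?_⟩
  obtain ⟨t, rfl⟩ := Submodule.mem_span_singleton.1 (hm z hz e he.1 hQz hQe (hperp e he).1 hz0)
  have h := (hperp _ he).2
  rw [polar_smul_right, smul_eq_mul, mul_eq_zero, polar_comm, or_iff_left hzf] at h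
  rw [h, zero_smul]

/-- The two sides are of different types. -/
theorem types {U : Submodule F V} (hU : ND Q U) (hn : Module.finrank F V = 8)
    (hU4 : Module.finrank F U = 4)
    (hno : ∀ T : Submodule F V, (∀ x ∈ T, Q x = 0) → Module.finrank F T < 4) :
    IsPlus Q U ∧ IsMinus Q (perpS Q U) ∨ IsPlus Q (perpS Q U) ∧ IsMinus Q U := by
  set W := perpS Q U with hWdef
  have hW : ND Q W := ND.perp hQ hU
  have hW4 : Module.finrank F W = 4 := by have := finrank_perpS hQ U; rw [hWdef]; omega
  have hcross : ∀ u ∈ U, ∀ w ∈ W, polar Q u w = 0 := fun u hu w hw => hw u hu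
  by_cases hmU : IsMinus Q U
  · by_cases hmW : IsMinus Q W
    · exfalso
      obtain ⟨z, f, E, hz, hf, hz0, hQz, hzf, hEU, hEp, hE, hEd, hEa⟩ :=
        exists_plane_split hQ hU hU4 hmU
      obtain ⟨z', f', E', hz', hf', hz'0, hQz', hzf', hEW, hEp', hE', hEd', hEa'⟩ :=
        exists_plane_split hQ hW hW4 hmW
      obtain ⟨T, hT, hT0, hTd⟩ := ts_pair hE hE'
        (fun e he h hh => hcross h (hEU hh) e (hEW he)) hEd hEd' hEa hEa'
      have hTp : ∀ t ∈ T, polar Q z t = 0 ∧ polar Q f t = 0 ∧ polar Q z' t = 0 ∧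
          polar Q f' t = 0 := by
        intro t ht
        obtain ⟨e, he, e', he', rfl⟩ := Submodule.mem_sup.1 (hT ht)
        refine ⟨?_, ?_, ?_, ?_⟩
        · rw [polar_add_right, (hEp e he).1, hcross z hz e' (hEW he'), add_zero]
        · rw [polar_add_right, (hEp e he).2, hcross f hf e' (hEW he'), add_zero]
        · rw [polar_add_right, (hEp' e' he').1, polar_comm, hcross e (hEU he) z' hz', add_zero]
        · rw [polar_add_right, (hEp' e' he').2, polar_comm, hcross e (hEU he) f' hf', add_zero]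
      have hzz' : z' ∉ Submodule.span F {z} := fun h => hz'0 (ND.eq_zero hU
        ((Submodule.span_singleton_le_iff_mem _ _).2 hz h) hz')
      set S := Submodule.span F {z, z'}
      have hS0 : ∀ x ∈ T ⊔ S, Q x = 0 :=
        quad_sup_zero hT0 (quad_pair_zero hQz hQz' (hcross z hz z' hz')) fun t ht s hs => by
          obtain ⟨a, b, rfl⟩ := Submodule.mem_span_pair.1 hs
          rw [polar_add_right, polar_smul_right, polar_smul_right, polar_comm, (hTp t ht).1,
            polar_comm, (hTp t ht).2.2.1, smul_zero, smul_zero, add_zero]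
      have hinf : T ⊓ S = ⊥ := (Submodule.eq_bot_iff _).2 fun v hv => by
        obtain ⟨a, b, rfl⟩ := Submodule.mem_span_pair.1 hv.2
        obtain ⟨-, h1, -, h2⟩ := hTp _ hv.1
        rw [polar_add_right, polar_smul_right, polar_smul_right, hcross f hf z' hz', smul_zero,
          add_zero, smul_eq_mul, mul_eq_zero, polar_comm, or_iff_left hzf] at h1
        rw [polar_add_right, polar_smul_right, polar_smul_right, polar_comm (⇑Q) f' z,
          hcross z hz f' hf', smul_zero, zero_add, smul_eq_mul, mul_eq_zero, polar_comm,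
          or_iff_left hzf'] at h2
        rw [h1, h2, zero_smul, zero_smul, add_zero]
      have h := Submodule.finrank_sup_add_finrank_inf_eq T S
      rw [hinf, finrank_bot, hTd, finrank_two hz0 hzz', add_zero] at h
      have := hno _ hS0
      omega
    · exact Or.inr ⟨isPlus_of_not_isMinus hQ hmW, hmU⟩
  · by_cases hmW : IsMinus Q W
    · exact Or.inl ⟨isPlus_of_not_isMinus hQ hmU, hmW⟩
    · exfalso
      unfold IsMinus at hmU hmW
      push Not at hmU hmW
      obtain ⟨a, ha, b, hb, hQa, hQb, hab, ha0, hbn⟩ := hmU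
      obtain ⟨a', ha', b', hb', hQa', hQb', hab', ha'0, hbn'⟩ := hmW
      have h1 : Submodule.span F {a, b} ≤ U :=
        Submodule.span_le.2 (by rintro _ (rfl | rfl); exacts [ha, hb])
      have h2 : Submodule.span F {a', b'} ≤ W :=
        Submodule.span_le.2 (by rintro _ (rfl | rfl); exacts [ha', hb'])
      have hS0 := quad_sup_zero (quad_pair_zero hQa hQb hab) (quad_pair_zero hQa' hQb' hab')
        fun x hx y hy => hcross x (h1 hx) y (h2 hy)
      have hinf : Submodule.span F {a, b} ⊓ Submodule.span F {a', b'} = ⊥ :=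
        (Submodule.eq_bot_iff _).2 fun v hv => ND.eq_zero hU (h1 hv.1) (h2 hv.2)
      have h := Submodule.finrank_sup_add_finrank_inf_eq (Submodule.span F {a, b})
        (Submodule.span F {a', b'})
      rw [hinf, finrank_bot, finrank_two ha0 hbn, finrank_two ha'0 hbn', add_zero] at h
      have := hno _ hS0
      omega

/-- Maximality of the stabiliser of a non-degenerate four-space, minus type in dimension eight. -/
theorem four_maximal {U : Submodule F V} (hU : ND Q U) (hn : Module.finrank F V = 8)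
    (hU4 : Module.finrank F U = 4)
    (hno : ∀ T : Submodule F V, (∀ x ∈ T, Q x = 0) → Module.finrank F T < 4) :
    Cfsg.Geo.IsMaximalIn (commutator (oGroup Q)) (stabO Q U ⊓ commutator (oGroup Q)) := by
  rcases types hQ hU hn hU4 hno with ⟨hp, hm⟩ | ⟨hp, hm⟩
  · exact maximal hQ hn hU hU4 hp hm
  · rw [← stabO_perp_eq hQ]
    refine maximal hQ hn (ND.perp hQ hU) ?_ hp (by rwa [perpS_perpS hQ])
    have := finrank_perpS hQ U
    omega

end CfsgLib.Geo.OS.FourFour
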